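import Mathlib.Algebra.Group.Fin.Tuple
import Mathlib.Algebra.BigOperators.Fin
import Mathlib.Algebra.Ring.Int.Parity
import Mathlib.Data.Finset.Powerset
import Mathlib.Algebra.Module.Basic
import Mathlib.Tactic.Abel
import Mathlib.Tactic.Ring
import Mathlib.Tactic.LinearCombination
import Mathlib.Tactic.Linarith
import Mathlib.Tactic.Module
import Mathlib.Algebra.BigOperators.Group.Finset.Powerset

/-!
Maps pointed of degree 2 and deviations.
-/

set_option autoImplicit false

universe u v

namespace Groth.Agent.PtDegLib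

/-- Triangular numbers. -/
def tri (n : ℤ) : ℤ := n * (n + 1) / 2

theorem two_tri (n : ℤ) : 2 * tri n = n * (n + 1) :=
  Int.mul_ediv_cancel' (Int.even_mul_succ_self n).two_dvd

theorem tri_succ (n : ℤ) : tri (n + 1) = tri n + (n + 1) := by
  have := two_tri n
  have := two_tri (n + 1)
  linarith

theorem tri_pred (n : ℤ) : n * (n - 1) / 2 = tri (n - 1) := by
  rw [tri, show (n - 1) * (n - 1 + 1) = n * (n - 1) by ring]

variable {A : Type u} {G : Type v} [AddCommGroup A] [AddCommGroup G] {f : A → G}
  (hf : ∀ x y z : A, f (x + y + z) + f x + f y + f z = f (x + y) + f (x + z) + f (y + z))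
include hf

theorem map_zero' : f 0 = 0 := by
  have h := hf 0 0 0
  simp only [add_zero] at h
  simpa using h

theorem map_succ (n : ℤ) (x : A) :
    f ((n + 1) • x) + f ((n - 1) • x) = f (n • x) + f (n • x) + (f x + f (-x)) := by
  have h := hf (n • x) x (-x)
  have e1 : n • x + x + -x = n • x := by abel
  have e2 : n • x + x = (n + 1) • x := by rw [add_smul, one_smul]
  have e3 : n • x + -x = (n - 1) • x := by rw [sub_smul, one_smul, sub_eq_add_neg]
  rw [e1, e2, e3, add_neg_cancel, map_zero' hf, add_zero] at h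
  rw [← h]
  abel

theorem map_zsmul_tri (n : ℤ) (x : A) : f (n • x) = tri n • f x + tri (n - 1) • f (-x) := by
  suffices h : f (n • x) = tri n • f x + tri (n - 1) • f (-x) ∧
      f ((n + 1) • x) = tri (n + 1) • f x + tri n • f (-x) from h.1
  induction n using Int.induction_on with
  | zero => simp [tri, map_zero' hf]
  | succ i ih =>
    refine ⟨by simpa using ih.2, ?_⟩
    have h := map_succ hf ((i : ℤ) + 1) x
    rw [show (i : ℤ) + 1 - 1 = i by ring, ih.1, ih.2] at h
    have h1 := tri_succ ((i : ℤ) + 1)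
    have h2 := tri_succ (i : ℤ)
    have h3 := tri_succ ((i : ℤ) - 1)
    rw [show (i : ℤ) - 1 + 1 = i by ring] at h3
    rw [eq_sub_of_add_eq h]
    match_scalars <;> linarith
  | pred i ih =>
    refine ⟨?_, by simpa using ih.1⟩
    have h := map_succ hf (-(i : ℤ)) x
    rw [ih.1, ih.2] at h
    have h1 := tri_succ (-(i : ℤ) - 1)
    have h2 := tri_succ (-(i : ℤ))
    have h3 := tri_succ (-(i : ℤ) - 1 - 1)
    rw [show -(i : ℤ) - 1 + 1 = -i by ring] at h1
    rw [show -(i : ℤ) - 1 - 1 + 1 = -i - 1 by ring] at h3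
    rw [show f ((-(i : ℤ) - 1) • x) = _ from eq_sub_of_add_eq' h]
    match_scalars <;> linarith

theorem smul_map_eq_zero (n : ℤ) (hn : ∀ x : A, n • x = 0) (x : A) :
    (2 * n) • f x = 0 ∧ (Odd n → n • f x = 0) := by
  have h0 := map_zsmul_tri hf n x
  have h1 := map_zsmul_tri hf (n + 1) x
  rw [hn, map_zero' hf] at h0
  rw [add_smul, hn, one_smul, zero_add, add_sub_cancel_right, tri_succ] at h1
  have hs : n • (f x + f (-x)) = 0 := by
    have h3 := tri_succ (n - 1)
    rw [sub_add_cancel] at h3
    have h4 : n • (f x + f (-x)) = ((tri n + (n + 1)) • f x + tri n • f (-x) - f x) -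
        (tri n • f x + tri (n - 1) • f (-x)) := by
      match_scalars <;> linarith
    rw [h4, ← h1, ← h0]
    simp
  have hkey : n • f x = -(tri (n - 1) • (f x + f (-x))) := by
    have h3 := tri_succ (n - 1)
    rw [sub_add_cancel] at h3
    have h5 : n • f x + tri (n - 1) • (f x + f (-x)) = tri n • f x + tri (n - 1) • f (-x) := by
      match_scalars <;> linarith
    exact eq_neg_of_add_eq_zero_left (h5.trans h0.symm)
  constructor
  · rw [mul_smul, hkey, smul_neg, ← mul_smul, two_tri, sub_add_cancel, mul_smul, hs, smul_zero, neg_zero]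
  · rintro ⟨k, hk⟩
    have : tri (n - 1) = k * n := by
      have := two_tri (n - 1)
      subst hk
      linarith
    rw [hkey, this, mul_smul, hs, smul_zero, neg_zero]

omit hf

variable {ι : Type*} [DecidableEq ι]

/-- The alternating sum over all subsets of `s` of `f`, shifted by `c`. -/
def dev (f : A → G) (s : Finset ι) (z : ι → A) (c : A) : G :=
  ∑ I ∈ s.powerset, ((-1 : ℤ) ^ (s.card + I.card)) • f (c + ∑ i ∈ I, z i)

theorem dev_insert (f : A → G) (s : Finset ι) (z : ι → A) (c : A) {a : ι} (ha : a ∉ s) :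
    dev f (insert a s) z c = dev f s z (c + z a) - dev f s z c := by
  rw [dev, Finset.sum_powerset_insert ha, dev, dev, add_comm, sub_eq_add_neg, ← Finset.sum_neg_distrib]
  congr 1
  · refine Finset.sum_congr rfl fun I hI => ?_
    have hai : a ∉ I := fun h => ha (Finset.mem_powerset.1 hI h)
    rw [Finset.card_insert_of_notMem ha, Finset.card_insert_of_notMem hai, Finset.sum_insert hai, ← add_assoc c]
    congr 1
    rw [show s.card + 1 + (I.card + 1) = s.card + I.card + 2 by ring, pow_add]
    norm_num
  · refine Finset.sum_congr rfl fun I _ => ?_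
    rw [Finset.card_insert_of_notMem ha, show s.card + 1 + I.card = (s.card + I.card) + 1 by ring, pow_succ,
      mul_neg, mul_one, neg_smul]

theorem dev_congr (f : A → G) (s : Finset ι) {z z' : ι → A} (c : A) (h : ∀ i ∈ s, z i = z' i) :
    dev f s z c = dev f s z' c :=
  Finset.sum_congr rfl fun _ hI =>
    congrArg _ (congrArg f (congrArg _ (Finset.sum_congr rfl fun i hi => h i (Finset.mem_powerset.1 hI hi))))

theorem dev_map {κ : Type*} [DecidableEq κ] (f : A → G) (e : ι ↪ κ) (s : Finset ι) (z : κ → A) :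
    ∀ c, dev f (s.map e) z c = dev f s (z ∘ e) c := by
  induction s using Finset.induction with
  | empty => intro c; simp [dev]
  | @insert a s ha ih =>
    intro c
    rw [Finset.map_insert, dev_insert _ _ _ _ (by simpa using ha), dev_insert _ _ _ _ ha, ih, ih]
    rfl

theorem sum_erase_eq_dev (f : A → G) (k : ℕ) (z : Fin k → A) :
    ∑ I ∈ ((Finset.univ : Finset (Fin k)).powerset.erase ∅), ((-1 : ℤ) ^ (k + I.card)) • f (∑ i ∈ I, z i) =
      dev f Finset.univ z 0 - ((-1 : ℤ) ^ k) • f 0 := by
  rw [Finset.sum_erase_eq_sub (by simp), dev]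
  simp

theorem dev_of_eq_zero (f : A → G) (s : Finset ι) (z : ι → A) (c : A) {i : ι} (hi : i ∈ s) (hz : z i = 0) :
    dev f s z c = 0 := by
  rw [← Finset.insert_erase hi, dev_insert _ _ _ _ (Finset.notMem_erase i s), hz, add_zero, sub_self]

end Groth.Agent.PtDegLib
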